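import Cfsg.Agent.OddHalf.D4.Spor.Sheet
import Cfsg.Agent.Co2Type.Quad
import Cfsg.Agent.S0028
import Cfsg.Agent.KFacts.Co3D4.Glevel
import Cfsg.Agent.Lib.NormalAbelian
import Cfsg.Agent.Co2Type.FactsCo2
import Cfsg.Agent.KFacts.CoTwo.RLarge
import Cfsg.Agent.Co2Type.SimpleCo2
import Cfsg.Agent.OddHalf.D4.Spor.OfBasic
import Cfsg.Agent.OddHalf.D4.Spor.Transport
import Cfsg.Agent.KFacts.CoTwo.Main

-- merged: Cfsg.Agent.KFacts.Co2D4.Gen
section

/-!
# General lemmas for the sheets of kind D4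

* `exists_v`: `N` normal in `C(w)`, `w ∈ N`, `4 ∣ |N|`, `S` a Sylow 2-subgroup of `C(w)`: there is `v ∈ N ∩ S`, not in
  `{1, w}`, central in `S` modulo `⟨w⟩`.
* `Bad.conj`, `Bad.of_isConj`: transport.
* `eq_one_of_large`: `C(z)` with a large extraspecial subgroup: `C(z) ∩ O(C(w)) = 1` for `w ∈ C(z)`.
-/

set_option autoImplicit false

namespace Cfsg.Agent.KFacts.Co2D4

open Subgroup
open Cfsg.Agent.OddHalf.D4.Spor (Cen Bad)

variable {X : Type*} [Group X]

/-- transport of `Bad` -/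
theorem bad_conj [Finite X] {w : X} {N : Subgroup X} (h : Bad w N) (g : X) :
    Bad (g * w * g⁻¹) (N.map (MulAut.conj g).toMonoidHom) where
  sq := by
    have : g * w * g⁻¹ * (g * w * g⁻¹) = g * (w * w) * g⁻¹ := by group
    rw [this, h.sq]; group
  ne := fun h1 => h.ne (by
    calc w = g⁻¹ * (g * w * g⁻¹) * g := by group
      _ = 1 := by rw [h1]; group)
  mem := ⟨w, h.mem, rfl⟩
  le := by
    rintro _ ⟨n, hn, rfl⟩
    have h1 := h.le n hn
    show g * n * g⁻¹ * (g * w * g⁻¹) = g * w * g⁻¹ * (g * n * g⁻¹)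
    calc g * n * g⁻¹ * (g * w * g⁻¹) = g * (n * w) * g⁻¹ := by group
      _ = g * (w * n) * g⁻¹ := by rw [h1]
      _ = _ := by group
  norm := by
    rintro c hc _ ⟨n, hn, rfl⟩
    refine ⟨(g⁻¹ * c * g) * n * (g⁻¹ * c * g)⁻¹, h.norm _ ?_ n hn, ?_⟩
    · calc g⁻¹ * c * g * w = g⁻¹ * (c * (g * w * g⁻¹)) * g := by group
        _ = g⁻¹ * ((g * w * g⁻¹) * c) * g := by rw [hc]
        _ = _ := by group
    · show g * ((g⁻¹ * c * g) * n * (g⁻¹ * c * g)⁻¹) * g⁻¹ = c * (g * n * g⁻¹) * c⁻¹
      group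
  four := by
    rw [← Nat.card_congr (N.equivMapOfInjective _ (MulAut.conj g).injective).toEquiv]
    exact h.four
  non := by
    rintro _ ⟨b, hb, rfl⟩ h2 h1 hc
    have h2' : g * b * g⁻¹ * (g * b * g⁻¹) = 1 := h2
    refine h.non b hb ?_ ?_ ?_
    · calc b * b = g⁻¹ * (g * b * g⁻¹ * (g * b * g⁻¹)) * g := by group
        _ = 1 := by rw [h2']; group
    · rintro rfl
      apply h1
      exact map_one (MulAut.conj g).toMonoidHom
    · have h3 := KFacts.Co3D4.conj_cen hc g⁻¹
      have h4 : g⁻¹ * ((MulAut.conj g).toMonoidHom b) * g⁻¹⁻¹ = b := by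
        show g⁻¹ * (g * b * g⁻¹) * g⁻¹⁻¹ = b
        group
      rwa [h4] at h3

theorem bad_of_isConj [Finite X] {w w' : X} {N : Subgroup X} (h : Bad w N) (hc : IsConj w w') :
    ∃ N', Bad w' N' := by
  obtain ⟨g, rfl⟩ := isConj_iff.1 hc
  exact ⟨_, bad_conj h g⟩

theorem cen_of_isConj [Finite X] {w w' : X} (h : Cen w) (hc : IsConj w w') : Cen w' := by
  obtain ⟨g, rfl⟩ := isConj_iff.1 hc
  exact KFacts.Co3D4.conj_cen h g

/-- **An element central modulo `w`.** `S ≤ C(w)` is a maximal 2-subgroup of `C(w)`. -/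
theorem exists_v [Finite X] {w : X} {N : Subgroup X} (h : Bad w N) {S : Subgroup X} (hS : IsPGroup 2 ↥S)
    (hSw : ∀ s ∈ S, s * w = w * s)
    (hmax : ∀ P : Subgroup X, IsPGroup 2 ↥P → S ≤ P → (∀ s ∈ P, s * w = w * s) → P = S) :
    ∃ v ∈ N, v ∈ S ∧ v ≠ 1 ∧ v ≠ w ∧ ∀ s ∈ S, s * v * s⁻¹ = v ∨ s * v * s⁻¹ = v * w := by
  have : Fact (Nat.Prime 2) := ⟨Nat.prime_two⟩
  let C := centralizer ({w} : Set X)
  have hSC : S ≤ C := fun s hs => mem_centralizer_singleton_iff.2 (hSw s hs)
  -- `S` as a Sylow subgroup of `C`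
  let TS : Sylow 2 C :=
    { toSubgroup := S.subgroupOf C
      isPGroup' := hS.comap_of_injective C.subtype C.subtype_injective
      is_maximal' := by
        intro P hP hle
        have h1 := hmax (P.map C.subtype) (hP.map _) ?_ ?_
        · rw [← h1]
          ext x
          rw [mem_subgroupOf]
          constructor
          · intro hx
            exact ⟨x, hx, rfl⟩
          · rintro ⟨y, hy, hyx⟩
            have : y = x := Subtype.ext hyx
            rwa [← this]
        · intro s hs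
          exact ⟨⟨s, hSC hs⟩, hle hs, rfl⟩
        · rintro _ ⟨y, -, rfl⟩
          exact mem_centralizer_singleton_iff.1 y.2 }
  have hNC : N ≤ C := fun n hn => mem_centralizer_singleton_iff.2 (h.le n hn)
  -- a subgroup of order 4
  obtain ⟨V, hV⟩ := Sylow.exists_subgroup_card_pow_prime (G := ↥N) 2 (n := 2) (by simpa using h.four)
  have hVp : IsPGroup 2 ↥V := by rw [IsPGroup.iff_card]; exact ⟨2, hV⟩
  let V1 : Subgroup C := (V.map N.subtype).subgroupOf C
  have hV1le : V.map N.subtype ≤ C := by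
    rintro _ ⟨v, -, rfl⟩
    exact hNC v.2
  have hV1p : IsPGroup 2 ↥V1 := (hVp.map N.subtype).comap_of_injective C.subtype C.subtype_injective
  have hV1card : Nat.card ↥V1 = 4 := by
    rw [Nat.card_congr (subgroupOfEquivOfLe hV1le).toEquiv,
      ← Nat.card_congr (V.equivMapOfInjective _ N.subtype_injective).toEquiv, hV]
    norm_num
  obtain ⟨Q, hQ⟩ := hV1p.exists_le_sylow
  obtain ⟨c, hc⟩ := MulAction.exists_smul_eq C Q TS
  have hc' : ∀ x : C, x ∈ V1 → (c : X) * x * (c : X)⁻¹ ∈ S := by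
    intro x hx
    have h1 : c * x * c⁻¹ ∈ ((c • Q : Sylow 2 C) : Subgroup C) := by
      rw [Sylow.smul_def]
      exact smul_mem_pointwise_smul x (MulAut.conj c) _ (hQ hx)
    rw [hc] at h1
    exact h1
  -- `K = N ∩ S` as a subgroup of `S`
  let K : Subgroup ↥S := N.subgroupOf S
  have hKn : K.Normal := by
    refine ⟨?_⟩
    intro n hn g
    rw [mem_subgroupOf] at hn ⊢
    exact h.norm g (hSw g g.2) n hn
  have hwS : w ∈ S := by
    have h1 : IsPGroup 2 ↥(S ⊔ zpowers w) := by
      have hw : IsPGroup 2 ↥(zpowers w) := by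
        rw [IsPGroup.iff_card]
        exact ⟨1, by rw [Nat.card_zpowers, pow_one]; exact orderOf_eq_prime (by rw [pow_two]; exact h.sq) h.ne⟩
      apply hS.to_sup_of_normal_left' hw
      rw [zpowers_le, mem_normalizer_iff]
      have h3 : ∀ x ∈ S, w * x * w⁻¹ = x := by
        intro x hx
        rw [← hSw x hx]; group
      intro x
      constructor
      · intro hx
        rw [h3 x hx]; exact hx
      · intro hx
        have h4 := h3 _ hx
        have h5 : w * x * w⁻¹ = x := mul_left_cancel (mul_right_cancel h4)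
        rwa [h5] at hx
    have h2 := hmax _ h1 le_sup_left (by
      intro s hs
      have h3 : S ⊔ zpowers w ≤ C := sup_le hSC (by rw [zpowers_le]; exact mem_centralizer_singleton_iff.2 rfl)
      exact mem_centralizer_singleton_iff.1 (h3 hs))
    rw [← h2]
    exact mem_sup_right (mem_zpowers w)
  let w' : ↥S := ⟨w, hwS⟩
  have hwc : ∀ s : ↥S, s * w' = w' * s := fun s => Subtype.ext (hSw s s.2)
  have hWn : (zpowers w').Normal := by
    refine ⟨?_⟩
    intro n hn g
    obtain ⟨k, rfl⟩ := mem_zpowers_iff.1 hn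
    have h1 : Commute g (w' ^ k) := (show Commute g w' from hwc g).zpow_right k
    rw [h1.eq, mul_inv_cancel_right]
    exact hn
  have hw2 : w' * w' = 1 := Subtype.ext h.sq
  have hmemW : ∀ x : ↥S, x ∈ zpowers w' ↔ x = 1 ∨ x = w' := by
    intro x
    rw [SporRec.TwoSp6.Lift.mem_zpowers hw2]
  -- the image in `S / ⟨w⟩`
  have hp : IsPGroup 2 (↥S ⧸ zpowers w') := hS.to_quotient _
  have hnil : Group.IsNilpotent (↥S ⧸ zpowers w') := hp.isNilpotent
  have hKb : (K.map (QuotientGroup.mk' (zpowers w'))).Normal := hKn.map _ (QuotientGroup.mk'_surjective _)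
  have hne : K.map (QuotientGroup.mk' (zpowers w')) ≠ ⊥ := by
    intro hbot
    have h1 : K ≤ zpowers w' := by
      intro x hx
      have h2 : QuotientGroup.mk' (zpowers w') x ∈ K.map (QuotientGroup.mk' (zpowers w')) := ⟨x, hx, rfl⟩
      rw [hbot, mem_bot] at h2
      exact (QuotientGroup.eq_one_iff x).1 h2
    -- so `|V| ≤ 2`
    have h3 : ∀ x : C, x ∈ V1 → x = 1 ∨ (x : X) = w := by
      intro x hx
      have hxN : (x : X) ∈ N := by
        obtain ⟨v, -, hv⟩ := hx
        have : (v : X) = x := hv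
        rw [← this]; exact v.2
      have h4 : (⟨(c : X) * x * (c : X)⁻¹, hc' x hx⟩ : ↥S) ∈ K :=
        h.norm c (mem_centralizer_singleton_iff.1 c.2) x hxN
      rcases (hmemW _).1 (h1 h4) with h5 | h5
      · left
        have h6 : (c : X) * x * (c : X)⁻¹ = 1 := congrArg Subtype.val h5
        apply Subtype.ext
        show (x : X) = 1
        calc (x : X) = (c : X)⁻¹ * ((c : X) * x * (c : X)⁻¹) * c := by group
          _ = 1 := by rw [h6]; group
      · right
        have h6 : (c : X) * x * (c : X)⁻¹ = w := congrArg Subtype.val h5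
        have h7 : (c : X) * w = w * c := mem_centralizer_singleton_iff.1 c.2
        calc (x : X) = (c : X)⁻¹ * ((c : X) * x * (c : X)⁻¹) * c := by group
          _ = (c : X)⁻¹ * (w * c) := by rw [h6]; group
          _ = w := by rw [← h7]; group
    have hwC : w ∈ C := mem_centralizer_singleton_iff.2 rfl
    have hle : Nat.card ↥V1 ≤ 2 := by
      have : (V1 : Set C) ⊆ {1, ⟨w, hwC⟩} := fun x hx => by
        rcases h3 x hx with h4 | h4
        · exact Or.inl h4
        · exact Or.inr (Subtype.ext h4)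
      calc Nat.card ↥V1 = (V1 : Set C).ncard := Nat.card_coe_set_eq _
        _ ≤ ({1, ⟨w, hwC⟩} : Set C).ncard := Set.ncard_le_ncard this (Set.toFinite _)
        _ ≤ 2 := by
          calc ({1, ⟨w, hwC⟩} : Set C).ncard ≤ ({⟨w, hwC⟩} : Set C).ncard + 1 := Set.ncard_insert_le _ _
            _ = 2 := by rw [Set.ncard_singleton]
    omega
  have hmeet := Lib.NormalAbelian.normal_inf_center_ne_bot _ hne
  rw [Ne, eq_bot_iff_forall] at hmeet
  push Not at hmeet
  obtain ⟨q, ⟨⟨v, hvK, rfl⟩, hqc⟩, hq1⟩ := hmeet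
  have hv1 : v ∉ zpowers w' := fun h1 => hq1 ((QuotientGroup.eq_one_iff v).2 h1)
  rw [hmemW] at hv1
  push Not at hv1
  refine ⟨v, hvK, v.2, fun h1 => hv1.1 (Subtype.ext h1), fun h1 => hv1.2 (Subtype.ext h1), ?_⟩
  intro s hs
  have h1 := mem_center_iff.1 hqc (QuotientGroup.mk' _ ⟨s, hs⟩)
  rw [← map_mul, ← map_mul] at h1
  have h2 : (v * ⟨s, hs⟩)⁻¹ * (⟨s, hs⟩ * v) ∈ zpowers w' := (QuotientGroup.eq).1 h1.symm
  rcases (hmemW _).1 h2 with h3 | h3
  · left
    have h4 : (⟨s, hs⟩ : ↥S) * v = v * ⟨s, hs⟩ := by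
      have := congrArg (fun t => (v * ⟨s, hs⟩) * t) h3
      simpa [mul_assoc] using this
    have h5 : s * (v : X) = v * s := congrArg Subtype.val h4
    rw [h5]; group
  · right
    have h4 : (⟨s, hs⟩ : ↥S) * v = v * ⟨s, hs⟩ * w' := by
      have := congrArg (fun t => (v * ⟨s, hs⟩) * t) h3
      simpa [mul_assoc] using this
    have h5 : s * (v : X) = v * s * w := congrArg Subtype.val h4
    rw [h5, mul_assoc (v : X), hSw s hs, ← mul_assoc]
    group

/-- **Thompson's `A × B` lemma in the centraliser of a 2-central involution.** -/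
theorem eq_one_of_large [Finite X] {Q : Subgroup X} {z w : X} (hL : Co2Type.Quad.Large Q z) (hQ : IsPGroup 2 ↥Q)
    (hw : w * w = 1) (hwz : w * z = z * w) {I : Subgroup X} (hI : ∀ i ∈ I, i * w = w * i)
    (hn : ∀ c, c * w = w * c → ∀ i ∈ I, c * i * c⁻¹ ∈ I) (hodd : Odd (Nat.card ↥I)) :
    ∀ x ∈ I, x * z = z * x → x = 1 := by
  have : Fact (Nat.Prime 2) := ⟨Nat.prime_two⟩
  let J : Subgroup X := I ⊓ centralizer ({z} : Set X)
  have memJ : ∀ x, x ∈ J ↔ x ∈ I ∧ x * z = z * x := by
    intro x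
    exact and_congr_right fun _ => mem_centralizer_singleton_iff
  have hJodd : Odd (Nat.card ↥J) := Odd.of_dvd_nat hodd (card_dvd_of_le inf_le_left)
  have hdisj : ∀ x ∈ I, x ∈ Q → x = 1 := by
    intro x hx hxQ
    have h1 : orderOf x ∣ Nat.card ↥I := by
      have := orderOf_dvd_natCard (⟨x, hx⟩ : ↥I)
      rwa [Subgroup.orderOf_mk] at this
    obtain ⟨n, hn⟩ := hQ ⟨x, hxQ⟩
    have h2 : orderOf x ∣ 2 ^ n := by
      apply orderOf_dvd_of_pow_eq_one
      exact congrArg Subtype.val hn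
    have h3 : Nat.Coprime (2 ^ n) (Nat.card ↥I) := Nat.Coprime.pow_left n (Nat.coprime_two_left.mpr hodd)
    exact orderOf_eq_one_iff.1 (Nat.eq_one_of_dvd_coprimes h3 h2 h1)
  have hwz' : w⁻¹ = w := inv_eq_of_mul_eq_one_left hw
  have hzp : ∀ p ∈ zpowers w, p = 1 ∨ p = w := fun p hp => (SporRec.TwoSp6.Lift.mem_zpowers hw).1 hp
  have hcz : ∀ x : X, x * z = z * x → ∀ u, u ∈ Q ↔ x * u * x⁻¹ ∈ Q := by
    intro x hx u
    constructor
    · exact hL.conj_mem x hx u
    · intro hu
      have hx' : x⁻¹ * z = z * x⁻¹ := by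
        calc x⁻¹ * z = x⁻¹ * (z * x) * x⁻¹ := by group
          _ = x⁻¹ * (x * z) * x⁻¹ := by rw [hx]
          _ = z * x⁻¹ := by group
      have h1 := hL.conj_mem x⁻¹ hx' _ hu
      have h2 : x⁻¹ * (x * u * x⁻¹) * x⁻¹⁻¹ = u := by group
      rwa [h2] at h1
  have hkey := Cfsg.Agent.S0028.result 2 (zpowers w) J Q
    (by
      rw [IsPGroup.iff_card]
      rw [Nat.card_zpowers]
      have h1 : orderOf w ∣ 2 := orderOf_dvd_of_pow_eq_one (by rw [pow_two]; exact hw)
      rcases (Nat.dvd_prime Nat.prime_two).1 h1 with h2 | h2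
      · exact ⟨0, by rw [h2]; norm_num⟩
      · exact ⟨1, by rw [h2]; norm_num⟩)
    (Nat.coprime_two_right.mpr hJodd) hQ
    (by
      rw [zpowers_le, mem_centralizer_iff]
      intro j hj
      exact hI j ((memJ j).1 hj).1)
    (by
      rw [zpowers_le, mem_normalizer_iff]
      exact hcz w hwz)
    (by
      intro j hj
      rw [mem_normalizer_iff]
      exact hcz j ((memJ j).1 hj).2)
    (by
      rintro u ⟨huQ, huC⟩
      have huw : u * w = w * u := (mem_centralizer_iff.1 huC w (mem_zpowers w)).symm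
      rw [mem_centralizer_iff]
      intro j hj
      obtain ⟨hjI, hjz⟩ := (memJ j).1 hj
      have h1 : j * (u * j⁻¹ * u⁻¹) ∈ I := I.mul_mem hjI (hn u huw _ (I.inv_mem hjI))
      have h2 : j * (u * j⁻¹ * u⁻¹) ∈ Q := by
        have h3 : j * (u * j⁻¹ * u⁻¹) = (j * u * j⁻¹) * u⁻¹ := by group
        rw [h3]
        exact Q.mul_mem (hL.conj_mem j hjz u huQ) (Q.inv_mem huQ)
      have h3 := hdisj _ h1 h2
      calc j * u = j * (u * j⁻¹ * u⁻¹) * (u * j) := by group
        _ = u * j := by rw [h3, one_mul])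
  intro x hx hxz
  apply hdisj x hx
  apply hL.self x hxz
  intro q hq
  exact (mem_centralizer_iff.1 (hkey ((memJ x).2 ⟨hx, hxz⟩)) q hq).symm

end Cfsg.Agent.KFacts.Co2D4

end

-- merged: Cfsg.Agent.KFacts.Co2D4.Chk
section

/-!
# Kernel checks in the Sylow 2-subgroup `T = E : T22` of `Spor.Co2` for the sheet of kind D4

`y = ge my` (2B), `v = ge mv` (2C).
* `chkD1`, `chkD2`: every mask of weight 12 has at least 8 images under `T22`.
* `chkPy`, `chkZy`, `chkPv`, `chkZv`: the centre of `C_T(y)/⟨y⟩` and of `C_T(v)/⟨v⟩`.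
* `chkGy`, `chkGv`: some permutations stabilising `my`, `mv`.
-/

set_option autoImplicit false

namespace Cfsg.Agent.KFacts.Co2D4

open Cfsg Cfsg.Agent.SporadicA.GolayBase Cfsg.Agent.SporadicA.GolayPerm
open Cfsg.Agent.SporadicStructure.M24El
open Cfsg.Agent.Co2Type.Mono Cfsg.Agent.Co2Type.TData Cfsg.Agent.Co2Type.TGroup

/-! ### enumeration of the span with a vector of images -/

/-- componentwise exclusive or -/
def xorL : List ℕ → List ℕ → List ℕ
  | a :: l, b :: m => Nat.xor a b :: xorL l m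
  | _, _ => []

/-- enumeration of the span with a vector of images -/
def allSpV : List (ℕ × List ℕ) → (ℕ → List ℕ → Bool) → ℕ → List ℕ → Bool
  | [], f, a, L => f a L
  | b :: l, f, a, L => allSpV l f a L && allSpV l f (Nat.xor a b.1) (xorL L b.2)

theorem allSpV_spec {g : ℕ → List ℕ} (hg : ∀ a b, g (a ^^^ b) = xorL (g a) (g b)) {f : ℕ → List ℕ → Bool}
    {l : List ℕ} : ∀ {a : ℕ}, allSpV (l.map fun b => (b, g b)) f a (g a) = true →
    ∀ s, Sp l s → f (a ^^^ s) (g (a ^^^ s)) = true := by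
  induction l with
  | nil =>
    intro a h s hs
    have hs' : s = 0 := hs
    rw [hs', Nat.xor_zero]
    exact h
  | cons b l ih =>
    intro a h s hs
    rw [List.map_cons, allSpV, Bool.and_eq_true] at h
    rcases hs with hs | hs
    · exact ih h.1 s hs
    · have h2 : allSpV (l.map fun b => (b, g b)) f (a ^^^ b) (g (a ^^^ b)) = true := by
        rw [hg]
        exact h.2
      have := ih h2 _ hs
      have e : (a ^^^ b) ^^^ (s ^^^ b) = a ^^^ s := by
        rw [Nat.xor_comm s b, Nat.xor_assoc, ← Nat.xor_assoc b b s, Nat.xor_self, Nat.zero_xor]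
      rw [e] at this
      exact this

/-- images of a mask under a list of permutations -/
def imgs (F : List ℕ) (m : ℕ) : List ℕ := F.map fun P => pimg P m

theorem imgs_xor {F : List ℕ} (hF : ∀ P ∈ F, isPerm P = true) (a b : ℕ) :
    imgs F (a ^^^ b) = xorL (imgs F a) (imgs F b) := by
  induction F with
  | nil => rfl
  | cons P F ih =>
    show pimg P (a ^^^ b) :: imgs F (a ^^^ b) = Nat.xor (pimg P a) (pimg P b) :: xorL (imgs F a) (imgs F b)
    rw [ih fun Q hQ => hF Q (List.mem_cons_of_mem _ hQ), pimg_xor (hF P List.mem_cons_self)]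
    rfl

/-! ### weight 12 -/

/-- permutations -/
def F1 : List ℕ := [959619509409746840813589757942155808, 980676928678807231551985948370782496,
  980275103625608021941000511577983360, 28938703177910768603823288503044631,
  984231322269954045815289618422139072, 984650895008759490611503713509263392,
  968906059754783499496158145773406432, 29016010236477684322332310400780471]

/-- permutations -/
def F2 : List ℕ := [28811938273965103996673333751253687, 968705771151016797870976040124910240,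
  984650895008759490611503713509263392, 13239464237020258164500421254171191,
  28615452505956953882339784038615287, 29188430317105160851323245249759703,
  28770106000223622339025476757293495, 968532103415166212953387901757524256]

/-- permutations -/
def F3 : List ℕ := [13697106504059178643103593268971575, 25374189043728842624340974963362071,
  984321324869319684017664638098442784, 980357500839201844836796314325158176,
  980756810379944117777721035102423232, 13811194628793137883129650039425431,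
  980258604361933000183917870384793792, 980103950867666654833461843838749312]

/-- permutations -/
def F4 : List ℕ := [4397878906769683873783212478777847, 959643594695961039922085455018444960,
  13523438049314291502554518243707383, 959911068711444872212952189343746240,
  959535863810603778319876622897580160, 968571400229892424521567095052929056,
  24917814620724622498132352154552983, 25044579290232334308461903838791831]

/-- the masks of weight 12 not covered by `F1` -/
def exc : List ℕ := [357820, 498974, 517724, 1357374, 1451486, 1466012, 2467182, 2481708, 2575820, 2593398,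
  2615604, 3415470, 3434220, 3509220, 3535014, 3575374, 4912552, 4963416, 4966170, 5051380, 5073078, 5117534,
  5139740, 5157542, 5163492, 5827642, 5875146, 5889672, 6033356, 6059150, 6134150, 6152900, 6956410, 6970936,
  7018440, 7215414, 7234164, 7879912, 7882666, 7933530, 8204822, 8210772, 8295236, 8316934]

/-- the images of the basis -/
def BV : List (ℕ × List ℕ) := [
  (4202192, [5309160, 1584464, 525274, 7473194, 6344194, 4241960, 4361520, 4441280]),
  (2101096, [5833010, 126216, 2101096, 1230376, 1060490, 145176, 5939296, 2268296]),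
  (1050548, [4538962, 1525008, 3147996, 1103886, 3189796, 361272, 5249380, 2512448]),
  (525274, [722544, 5262104, 4202192, 1805314, 2664522, 567074, 1608104, 2769128]),
  (267634, [4325622, 1134148, 2365978, 2605066, 1369154, 10558, 5538256, 2168036]),
  (138790, [5709954, 337856, 2232654, 3227948, 1134148, 2365978, 4325622, 504864]),
  (72588, [1903248, 2384216, 36294, 3189796, 2255372, 1351424, 1722420, 2605066]),
  (36294, [5640752, 290352, 72588, 231532, 2106966, 307594, 5409412, 2409888]),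
  (21116, [884962, 1378634, 2106966, 3294342, 1103886, 290352, 2654580, 463064]),
  (10558, [4063314, 1405448, 2120980, 115766, 1090380, 267634, 1769924, 3444840])]

theorem chkBV : (B10.map fun b => (b, imgs F1 b)) = BV := by decide +kernel

theorem chkF : ((F1 ++ F2 ++ F3 ++ F4).all fun P => memL P L22) = true := by decide +kernel

theorem chkD1 : allSpV BV (fun c L => cond (Nat.beq (popcount c) 12) (nodupL L || memL c exc) true) 0
    [0, 0, 0, 0, 0, 0, 0, 0] = true := by decide +kernel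

theorem chkD2 : (exc.all fun c => nodupL (imgs F2 c) || nodupL (imgs F3 c) || nodupL (imgs F4 c)) = true := by
  decide +kernel

/-! ### the centre of `C_T(y)/⟨y⟩`, `C_T(v)/⟨v⟩` -/

/-- `x ∈ {0, w}` -/
def inW (w x : ℕ) : Bool := Nat.beq x 0 || Nat.beq x w

theorem inW_iff {w x : ℕ} : inW w x = true ↔ x = 0 ∨ x = w := by
  unfold inW
  rw [Bool.or_eq_true, Nat.beq_eq, Nat.beq_eq]

/-- permutations stabilising `my` -/
def PY1 : ℕ := 24846825968022034463888068564044087
/-- permutations stabilising `my` -/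
def PY2 : ℕ := 959894609041950200578829698494826528
/-- permutation stabilising `mv` -/
def PV1 : ℕ := 968857869518658512448487429098915968

/-- masks -/
def Zy : List ℕ := [0, 31554, 3375280, 3406834, 4726026, 4744776, 8101306, 8120056]
/-- masks -/
def Zv : List ℕ := [0, 277580, 3406834, 3655614, 4966170, 5241686, 7879912, 8126628]

theorem chkMem : (memL PY1 L22 && (memL PY2 L22 && memL PV1 L22) && (Nat.beq (pimg PY1 my) my &&
    (Nat.beq (pimg PY2 my) my && Nat.beq (pimg PV1 mv) mv))) = true := by decide +kernel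

theorem chkPy : (L22.all fun P => Nat.beq P idP || B10.any fun n => !(inW my (Nat.xor n (pimg P n)))) = true := by
  decide +kernel

theorem chkPv : (L22.all fun P => Nat.beq P idP || B10.any fun n => !(inW mv (Nat.xor n (pimg P n)))) = true := by
  decide +kernel

theorem chkZy : allSp2 (B10.map fun b => (b, pimg PY1 b)) (fun m m' => cond (inW my (Nat.xor m m'))
    (cond (inW my (Nat.xor m (pimg PY2 m))) (memL m Zy) true) true) 0 0 = true := by decide +kernel

theorem chkZv : allSp2 (B10.map fun b => (b, pimg PV1 b)) (fun m m' => cond (inW mv (Nat.xor m m'))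
    (memL m Zv) true) 0 0 = true := by decide +kernel

/-! ### conjugating permutations -/

/-- permutation of `M22:2` -/
def GY : ℕ := 981486382932547391085808379178912096
/-- permutation of `M22:2` -/
def GV1 : ℕ := 983136979590875387160845781586780288
/-- permutation of `M22:2` -/
def GV2 : ℕ := 13240909570316232578060630151758935

theorem chkGy : (okP GY && Nat.blt GY (2 ^ 120) && Nat.beq (pimg GY my) my && inE (pimg GY mp) &&
    Nat.beq (popcount (Nat.xor (Nat.xor mp (pimg GY mp)) my)) 16) = true := by decide +kernel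

theorem chkGv : (okP GV1 && Nat.blt GV1 (2 ^ 120) && Nat.beq (pimg GV1 mv) mv && okP GV2 && Nat.blt GV2 (2 ^ 120) &&
    Nat.beq (pimg GV2 mv) mv && inE (pimg GV1 277580) && inE (pimg GV2 277580) && inE 277580 &&
    Nat.beq (popcount (Nat.xor (Nat.xor 277580 (pimg GV1 277580)) (pimg GV2 277580))) 16) = true := by
  decide +kernel

end Cfsg.Agent.KFacts.Co2D4

end

-- merged: Cfsg.Agent.KFacts.Co2D4.Main
section

/-!
# The sheet of kind D4 of `Co₂`

`T = E : T22` is the Sylow 2-subgroup of `Spor.Co2` of `Co2Type.TGroup`; `z = ge mz`, `y = ge my`, `v = ge mv` in `E` are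
representatives of the three classes of involutions.
-/

set_option autoImplicit false

namespace Cfsg.Agent.KFacts.Co2D4

open Cfsg Cfsg.Agent.SporadicA.GolayBase Cfsg.Agent.SporadicA.GolayPerm
open Cfsg.Agent.SporadicStructure.M24El
open Cfsg.Agent.Co2Type.Mono Cfsg.Agent.Co2Type.TData Cfsg.Agent.Co2Type.TGroup Cfsg.Agent.Co2Type.FactsD
open Cfsg.Agent.Co2Type.TCard Cfsg.Agent.Co2Type.FactsClass Cfsg.Agent.Co2Type.Facts
open Cfsg.Agent.OddHalf.D4.Spor (Cen Bad)
open Cfsg.Agent.OddHalf.D4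

/-! ### 2-central involutions -/

theorem cen_z : Cen (ge mz) := ⟨TSyl, fun s hs => z_comm s hs⟩

theorem finite_co2 : Finite Spor.Co2 := Nat.finite_of_card_ne_zero (by
  rw [Cfsg.Agent.Co2Type.CardCo2.card_co2]; norm_num)

theorem cen_of_A {x : Spor.Co2} (h : IsConj (ge mz) x) : Cen x := by
  have := finite_co2
  exact cen_of_isConj cen_z h

theorem A_of_pop {m : ℕ} (hm : inE m = true) (h : popcount m = 16) : IsConj (ge mz) (ge m) := by
  refine conj_z_of_tr (Co2Type.FactsD.ge_sq hm) ?_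
  show tr (mo2 m idP) = -8
  rw [tr_E hm, h]
  norm_num

theorem ne_one_of_tr {x : Spor.Co2} (h : tr x ≠ 24) : x ≠ 1 := by
  rintro rfl
  exact h tr_one

/-! ### Sylow 2-subgroups of the centralisers -/

/-- `C_T(w)` is a Sylow 2-subgroup of `C(w)` if it has maximal order among the `C_T(x)`, `x` conjugate to `w`. -/
theorem max_of_bound {w : Spor.Co2} (hw : w ∈ T)
    (hb : ∀ x ∈ T, IsConj w x → Nat.card (cent T x) ≤ Nat.card (cent T w)) (P : Subgroup Spor.Co2)
    (hP : IsPGroup 2 ↥P) (hle : cent T w ≤ P) (hPw : ∀ s ∈ P, s * w = w * s) : P = cent T w := by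
  have := finite_co2
  have : Fact (Nat.Prime 2) := ⟨Nat.prime_two⟩
  obtain ⟨S, hS⟩ := hP.exists_le_sylow
  obtain ⟨g, hg⟩ := MulAction.exists_smul_eq Spor.Co2 S TSyl
  have hmem : ∀ x ∈ P, g * x * g⁻¹ ∈ T := by
    intro x hx
    have h2 : g * x * g⁻¹ ∈ ((g • S : Sylow 2 Spor.Co2) : Subgroup Spor.Co2) := by
      rw [Sylow.coe_subgroup_smul]
      exact ⟨x, hS hx, rfl⟩
    rw [hg] at h2
    exact h2
  have hwP : w ∈ P := hle (mem_cent.2 ⟨hw, rfl⟩)
  have h1 := hb (g * w * g⁻¹) (hmem w hwP) (isConj_iff.2 ⟨g, rfl⟩)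
  have h2 : P.map (MulAut.conj g).toMonoidHom ≤ cent T (g * w * g⁻¹) := by
    rintro _ ⟨x, hx, rfl⟩
    refine mem_cent.2 ⟨hmem x hx, ?_⟩
    show g * w * g⁻¹ * (g * x * g⁻¹) = g * x * g⁻¹ * (g * w * g⁻¹)
    have h3 := hPw x hx
    calc g * w * g⁻¹ * (g * x * g⁻¹) = g * (w * x) * g⁻¹ := by group
      _ = g * (x * w) * g⁻¹ := by rw [h3]
      _ = _ := by group
  have h3 := Subgroup.card_le_of_le h2
  rw [← Nat.card_congr (P.equivMapOfInjective _ (MulAut.conj g).injective).toEquiv] at h3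
  exact (Subgroup.eq_of_le_of_card_ge hle (h3.trans h1)).symm

theorem bound_y {x : Spor.Co2} (hx : x ∈ T) (h : IsConj (ge my) x) : Nat.card (cent T x) ≤ 2 ^ 17 := by
  have := finite_co2
  have h1 : Nat.card (cent T x) ∣ 2 ^ 18 := by
    rw [← card_T]
    exact Subgroup.card_dvd_of_le inf_le_left
  obtain ⟨k, hk, hk'⟩ := (Nat.dvd_prime_pow Nat.prime_two).1 h1
  rcases Nat.lt_or_ge k 18 with h2 | h2
  · rw [hk']
    exact Nat.pow_le_pow_right (by norm_num) (by omega)
  · exfalso
    have h3 : k = 18 := by omega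
    have h4 : cent T x = T := by
      apply Subgroup.eq_of_le_of_card_ge inf_le_left
      show Nat.card T ≤ Nat.card (cent T x)
      rw [card_T, hk', h3]
    have h5 := center_T x hx fun s hs => by
      rw [← h4] at hs
      exact (mem_cent.1 hs).2.symm
    have h6 := tr_of_isConj h
    rcases h5 with h5 | h5
    · rw [h5, Co2Type.FactsD.tr_y, tr_one] at h6; omega
    · rw [h5, Co2Type.FactsD.tr_y, Co2Type.FactsD.tr_z] at h6; omega

/-- `|C_T(e)| ≤ |T| / n` if the element `e` of `E` has `n` images under `T` -/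
theorem card_cent_of_images {c : ℕ} (hc : inE c = true) {F : List ℕ} (hF : ∀ P ∈ F, P ∈ L22)
    (hnd : (imgs F c).Nodup) : F.length * Nat.card (cent T (ge c)) ≤ 2 ^ 18 := by
  have := finite_co2
  let f : Fin F.length × ↥(cent T (ge c)) → ↥T := fun p =>
    ⟨mo2 0 (F.get p.1) * p.2, T.mul_mem (mo2_mem_T inE_zero (hF _ (List.get_mem _ _))) (mem_cent.1 p.2.2).1⟩
  have hf : Function.Injective f := by
    rintro ⟨i, h⟩ ⟨j, h'⟩ he
    have e1 : mo2 0 (F.get i) * (h : Spor.Co2) = mo2 0 (F.get j) * h' := congrArg Subtype.val he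
    have key : ∀ (i : Fin F.length) (h : ↥(cent T (ge c))),
        (mo2 0 (F.get i) * (h : Spor.Co2)) * ge c * (mo2 0 (F.get i) * (h : Spor.Co2))⁻¹ = ge (pimg (F.get i) c) := by
      intro i h
      have hP := hF _ (List.get_mem F i)
      have h1 : ge c * h = h * ge c := (mem_cent.1 h.2).2
      have h2 := mo2_conj_E inE_zero hc (okP_of_mem hP) (lt_of_mem hP)
      calc (mo2 0 (F.get i) * (h : Spor.Co2)) * ge c * (mo2 0 (F.get i) * (h : Spor.Co2))⁻¹
          = mo2 0 (F.get i) * ((h : Spor.Co2) * ge c) * (h : Spor.Co2)⁻¹ * (mo2 0 (F.get i))⁻¹ := by group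
        _ = (mo2 0 (F.get i) * mo2 c idP) * (mo2 0 (F.get i))⁻¹ := by rw [← h1]; unfold ge; group
        _ = ge (pimg (F.get i) c) := by rw [h2]; unfold ge; group
    have h3 : ge (pimg (F.get i) c) = ge (pimg (F.get j) c) := by
      rw [← key i h, ← key j h', e1]
    have hi := hF _ (List.get_mem F i)
    have hj := hF _ (List.get_mem F j)
    have h4 : pimg (F.get i) c = pimg (F.get j) c :=
      (mo2_inj (inE_pimg (okP_of_mem hi) hc) (inE_pimg (okP_of_mem hj) hc) okP_idP okP_idP idP_lt idP_lt h3).1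
    have h5 : i = j := by
      have h6 := List.nodup_iff_injective_get.1 hnd
      have h7 : (imgs F c).get ⟨i, by unfold imgs; rw [List.length_map]; exact i.2⟩ =
          (imgs F c).get ⟨j, by unfold imgs; rw [List.length_map]; exact j.2⟩ := by
        simpa [imgs] using h4
      have h8 := h6 h7
      exact Fin.ext (Fin.mk.inj_iff.1 h8)
    subst h5
    have h6 := mul_left_cancel e1
    exact Prod.ext rfl (Subtype.ext h6)
  have h1 := Nat.card_le_card_of_injective f hf
  rwa [Nat.card_prod, Nat.card_fin, card_T] at h1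

theorem bound_v {x : Spor.Co2} (hx : x ∈ T) (h : IsConj (ge mv) x) : Nat.card (cent T x) ≤ 2 ^ 15 := by
  have hsq := Cfsg.Agent.Co2Type.FactsClass.sq_of_isConj iv h
  obtain ⟨c, P, hc, hP, rfl⟩ := mem_T_iff.1 hx
  obtain ⟨h1, h2⟩ := (Cfsg.Agent.Co2Type.TClass.sq_eq_one_iff hc hP).1 hsq
  by_cases hid : P = idP
  · subst hid
    have ht := tr_of_isConj h
    rw [Co2Type.FactsD.tr_v, tr_E hc] at ht
    have h12 : popcount c = 12 := by omega
    have hFm : ∀ P ∈ F1 ++ F2 ++ F3 ++ F4, P ∈ L22 := fun P hP => memL_iff.1 (List.all_eq_true.1 chkF P hP)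
    have hfin : ∀ F : List ℕ, F.length = 8 → (∀ P ∈ F, P ∈ L22) → nodupL (imgs F c) = true →
        Nat.card (cent T (mo2 c idP)) ≤ 2 ^ 15 := by
      intro F hl hF hn
      have h3 := card_cent_of_images hc hF (nodup_of_nodupL hn)
      rw [hl] at h3
      have h4 : Nat.card (cent T (ge c)) ≤ 2 ^ 15 := by omega
      exact h4
    have hF1 : ∀ P ∈ F1, P ∈ L22 := fun P hP => hFm P (by simp [hP])
    have hF2 : ∀ P ∈ F2, P ∈ L22 := fun P hP => hFm P (by simp [hP])
    have hF3 : ∀ P ∈ F3, P ∈ L22 := fun P hP => hFm P (by simp [hP])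
    have hF4 : ∀ P ∈ F4, P ∈ L22 := fun P hP => hFm P (by simp [hP])
    have h3 : imgs F1 0 = [0, 0, 0, 0, 0, 0, 0, 0] := by decide +kernel
    have h4 := chkD1
    rw [← chkBV, ← h3] at h4
    have h5 := allSpV_spec (imgs_xor fun P hP => isPerm_of_mem (hF1 P hP)) h4 c (sp_B10 hc)
    rw [Nat.zero_xor, h12, Nat.beq_refl, cond_true, Bool.or_eq_true] at h5
    rcases h5 with h5 | h5
    · exact hfin F1 rfl hF1 h5
    · have h6 := List.all_eq_true.1 chkD2 c (memL_iff.1 h5)
      rw [Bool.or_eq_true, Bool.or_eq_true] at h6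
      rcases h6 with (h6 | h6) | h6
      · exact hfin F2 rfl hF2 h6
      · exact hfin F3 rfl hF3 h6
      · exact hfin F4 rfl hF4 h6
  · obtain ⟨r, hr, rfl⟩ := Cfsg.Agent.Co2Type.TClass.exists_row hP h1 hid
    have h3 := card_cent_le hr hc
    have h4 := Nat.le_of_ble_eq_true (List.all_eq_true.1 rows_bound r hr)
    have h5 := h3.trans h4
    have e2 : (16384 : ℕ) ≤ 2 ^ 15 := by norm_num
    exact h5.trans e2

/-! ### the centre modulo `w` -/

theorem ge_inv {m : ℕ} (hm : inE m = true) : (ge m)⁻¹ = ge m := inv_eq_of_mul_eq_one_left (Co2Type.FactsD.ge_sq hm)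

theorem centre_mod {mw : ℕ} (hmw : inE mw = true)
    (hchk : (L22.all fun P => Nat.beq P idP || B10.any fun n => !(inW mw (Nat.xor n (pimg P n)))) = true)
    {v' : Spor.Co2} (hv : v' ∈ cent T (ge mw))
    (hc : ∀ s ∈ cent T (ge mw), s * v' * s⁻¹ = v' ∨ s * v' * s⁻¹ = v' * ge mw) :
    ∃ m, inE m = true ∧ v' = ge m ∧ ∀ P ∈ L22, pimg P mw = mw → inW mw (Nat.xor m (pimg P m)) = true := by
  obtain ⟨hvT, hvw⟩ := mem_cent.1 hv
  obtain ⟨m, P, hm, hP, rfl⟩ := mem_T_iff.1 hvT
  have hPw : pimg P mw = mw := (comm_E_iff hm hmw (okP_of_mem hP) (lt_of_mem hP)).1 hvw.symm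
  have hid : P = idP := by
    have h1 := List.all_eq_true.1 hchk P hP
    rw [Bool.or_eq_true, List.any_eq_true] at h1
    rcases h1 with h1 | ⟨n, hn, h1⟩
    · exact Nat.eq_of_beq_eq_true h1
    · exfalso
      have hn' : inE n = true := List.all_eq_true.1 chkB10 n hn
      have hs : ge n ∈ cent T (ge mw) := mem_cent.2 ⟨ge_mem_T hn', by rw [ge_mul hmw hn', ge_mul hn' hmw, Nat.xor_comm]⟩
      have e1 : ge n * mo2 m P * (ge n)⁻¹ = mo2 (n ^^^ m ^^^ pimg P n) P := by
        rw [ge_inv hn']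
        show mo2 n idP * mo2 m P * mo2 n idP = _
        rw [mo2_mul_left hn' hm (okP_of_mem hP), mo2_mul (inE_xor hn' hm) hn' (okP_of_mem hP) okP_idP,
          pcomp_idP (ok_of_mem hP) (lt_of_mem hP)]
      have hnm : inE (n ^^^ m ^^^ pimg P n) = true := inE_xor (inE_xor hn' hm) (inE_pimg (okP_of_mem hP) hn')
      have h2 : inW mw (Nat.xor n (pimg P n)) = true := by
        rw [inW_iff]
        have hx : ∀ t : ℕ, n ^^^ m ^^^ pimg P n = t → n ^^^ pimg P n = m ^^^ t := by
          intro t ht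
          rw [← ht]
          apply Nat.eq_of_testBit_eq
          intro i
          simp only [Nat.testBit_xor]
          cases n.testBit i <;> cases m.testBit i <;> cases (pimg P n).testBit i <;> rfl
        rcases hc _ hs with h3 | h3
        · left
          rw [e1] at h3
          have h4 := (mo2_injT hnm hm hP hP h3).1
          have h5 := hx _ h4
          rw [Nat.xor_self] at h5
          exact h5
        · right
          have e2 : mo2 m P * ge mw = mo2 (m ^^^ mw) P := by
            show mo2 m P * mo2 mw idP = _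
            rw [mo2_mul hm hmw (okP_of_mem hP) okP_idP, pcomp_idP (ok_of_mem hP) (lt_of_mem hP), hPw]
          rw [e1, e2] at h3
          have h4 := (mo2_injT hnm (inE_xor hm hmw) hP hP h3).1
          have h5 := hx _ h4
          rw [← Nat.xor_assoc, Nat.xor_self, Nat.zero_xor] at h5
          exact h5
      rw [h2] at h1
      exact absurd h1 (by simp)
  subst hid
  refine ⟨m, hm, rfl, ?_⟩
  intro Q hQ hQw
  have hs : mo2 0 Q ∈ cent T (ge mw) := by
    refine mem_cent.2 ⟨mo2_mem_T inE_zero hQ, ?_⟩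
    exact ((comm_E_iff inE_zero hmw (okP_of_mem hQ) (lt_of_mem hQ)).2 hQw).symm
  have e1 : mo2 0 Q * mo2 m idP * (mo2 0 Q)⁻¹ = mo2 (pimg Q m) idP := by
    rw [mo2_conj_E inE_zero hm (okP_of_mem hQ) (lt_of_mem hQ), mul_inv_cancel_right]
  have hinj : ∀ {a b : ℕ}, inE a = true → inE b = true → mo2 a idP = mo2 b idP → a = b := fun ha hb h =>
    (mo2_inj ha hb okP_idP okP_idP idP_lt idP_lt h).1
  rw [inW_iff]
  rcases hc _ hs with h3 | h3
  · left
    rw [e1] at h3
    have h4 := hinj (inE_pimg (okP_of_mem hQ) hm) hm h3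
    show m ^^^ pimg Q m = 0
    rw [h4, Nat.xor_self]
  · right
    rw [e1] at h3
    have e2 : mo2 m idP * ge mw = mo2 (m ^^^ mw) idP := ge_mul hm hmw
    rw [e2] at h3
    have h4 := hinj (inE_pimg (okP_of_mem hQ) hm) (inE_xor hm hmw) h3
    show m ^^^ pimg Q m = mw
    rw [h4, ← Nat.xor_assoc, Nat.xor_self, Nat.zero_xor]

/-! ### `Bad` is impossible -/

theorem not16 {w : Spor.Co2} {N : Subgroup Spor.Co2} (h : Bad w N) {m : ℕ} (hm : inE m = true)
    (h16 : Nat.beq (popcount m) 16 = true) : ge m ∉ N := by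
  intro hN
  have hA := A_of_pop hm (Nat.eq_of_beq_eq_true h16)
  refine h.non _ hN (Co2Type.FactsD.ge_sq hm) ?_ (cen_of_A hA)
  apply ne_one_of_tr
  rw [← tr_of_isConj hA, Co2Type.FactsD.tr_z]
  norm_num

theorem ge_xor {N : Subgroup Spor.Co2} {a b : ℕ} (ha : inE a = true) (hb : inE b = true) (h1 : ge a ∈ N)
    (h2 : ge b ∈ N) : ge (a ^^^ b) ∈ N := by
  rw [← ge_mul ha hb]
  exact N.mul_mem h1 h2

/-- conjugation by a monomial element fixing the mask `mw` -/
theorem ge_pimg {mw : ℕ} (hmw : inE mw = true) {N : Subgroup Spor.Co2} (h : Bad (ge mw) N) {Q : ℕ} (hQ : okP Q = true)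
    (hlt : Q < 2 ^ 120) (hQw : pimg Q mw = mw) {m : ℕ} (hm : inE m = true) (h1 : ge m ∈ N) : ge (pimg Q m) ∈ N := by
  have hc : mo2 0 Q * ge mw = ge mw * mo2 0 Q := (comm_E_iff inE_zero hmw hQ hlt).2 hQw
  have h2 := h.norm _ hc _ h1
  have e1 : mo2 0 Q * ge m * (mo2 0 Q)⁻¹ = ge (pimg Q m) := by
    show mo2 0 Q * mo2 m idP * (mo2 0 Q)⁻¹ = mo2 (pimg Q m) idP
    rw [mo2_conj_E inE_zero hm hQ hlt, mul_inv_cancel_right]
  rwa [e1] at h2

theorem not_bad_y (N : Subgroup Spor.Co2) : ¬ Bad (ge my) N := by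
  intro h
  have := finite_co2
  have hmax := max_of_bound (ge_mem_T iy) (by
    intro x hx hc
    rw [cardy]
    exact bound_y hx hc)
  obtain ⟨v', hvN, hvS, hv1, hvw, hvc⟩ := exists_v h (S := cent T (ge my))
    (isPGroup_T.to_le inf_le_left) (fun s hs => (mem_cent.1 hs).2.symm) hmax
  obtain ⟨m, hm, rfl, hmc⟩ := centre_mod iy chkPy hvS hvc
  have hmem := chkMem
  simp only [Bool.and_eq_true, memL_iff, Nat.beq_eq] at hmem
  obtain ⟨⟨hP1, hP2, -⟩, hw1, hw2, -⟩ := hmem
  -- `m` is in the list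
  have h1 := allSp2_pimg (isPerm_of_mem hP1) chkZy (sp_B10 hm)
  rw [hmc _ hP1 hw1, cond_true, hmc _ hP2 hw2, cond_true, memL_iff] at h1
  have hyN : ge my ∈ N := h.mem
  have hG := chkGy
  simp only [Bool.and_eq_true, Nat.beq_eq, Nat.blt_eq] at hG
  obtain ⟨⟨⟨⟨g1, g2⟩, g3⟩, g4⟩, g5⟩ := hG
  -- `mp` is not in `N`
  have hp : ge mp ∉ N := by
    intro hp
    have h2 := ge_pimg iy h g1 g2 g3 ip hp
    have h3 := ge_xor (inE_xor ip g4) iy (ge_xor ip g4 hp h2) hyN
    exact not16 h (inE_xor (inE_xor ip g4) iy) (by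
      rw [Nat.beq_eq]; exact g5) h3
  have hxy : ∀ {a : ℕ}, inE a = true → ge a ∈ N → ge (a ^^^ my) ∈ N := fun ha h1 => ge_xor ha iy h1 hyN
  simp only [Zy, List.mem_cons, List.not_mem_nil, or_false] at h1
  rcases h1 with rfl | rfl | rfl | rfl | rfl | rfl | rfl | rfl
  · exact hv1 Co2Type.FactsD.ge_zero
  · exact hvw rfl
  · exact not16 h (inE_xor hm iy) (by decide +kernel) (hxy hm hvN)
  · exact not16 h hm (by decide +kernel) hvN
  · apply hp
    have h2 := hxy hm hvN
    have e : 4726026 ^^^ my = mp := by decide +kernel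
    rwa [e] at h2
  · exact hp hvN
  · exact not16 h hm (by decide +kernel) hvN
  · exact not16 h hm (by decide +kernel) hvN

theorem not_bad_v (N : Subgroup Spor.Co2) : ¬ Bad (ge mv) N := by
  intro h
  have := finite_co2
  have hmax := max_of_bound (ge_mem_T iv) (by
    intro x hx hc
    rw [cardv]
    exact bound_v hx hc)
  obtain ⟨v', hvN, hvS, hv1, hvw, hvc⟩ := exists_v h (S := cent T (ge mv))
    (isPGroup_T.to_le inf_le_left) (fun s hs => (mem_cent.1 hs).2.symm) hmax
  obtain ⟨m, hm, rfl, hmc⟩ := centre_mod iv chkPv hvS hvc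
  have hmem := chkMem
  simp only [Bool.and_eq_true, memL_iff, Nat.beq_eq] at hmem
  obtain ⟨⟨-, -, hP1⟩, -, -, hw1⟩ := hmem
  have h1 := allSp2_pimg (isPerm_of_mem hP1) chkZv (sp_B10 hm)
  rw [hmc _ hP1 hw1, cond_true, memL_iff] at h1
  have hyN : ge mv ∈ N := h.mem
  have hG := chkGv
  simp only [Bool.and_eq_true, Nat.beq_eq, Nat.blt_eq] at hG
  obtain ⟨⟨⟨⟨⟨⟨⟨⟨⟨g1, g2⟩, g3⟩, g4⟩, g5⟩, g6⟩, g7⟩, g8⟩, g9⟩, g10⟩ := hG
  have hp : ge 277580 ∉ N := by
    intro hp
    have h2 := ge_pimg iv h g1 g2 g3 g9 hp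
    have h3 := ge_pimg iv h g4 g5 g6 g9 hp
    have h4 := ge_xor (inE_xor g9 g7) g8 (ge_xor g9 g7 hp h2) h3
    exact not16 h (inE_xor (inE_xor g9 g7) g8) (by rw [Nat.beq_eq]; exact g10) h4
  have hxy : ∀ {a : ℕ}, inE a = true → ge a ∈ N → ge (a ^^^ mv) ∈ N := fun ha h1 => ge_xor ha iv h1 hyN
  simp only [Zv, List.mem_cons, List.not_mem_nil, or_false] at h1
  rcases h1 with rfl | rfl | rfl | rfl | rfl | rfl | rfl | rfl
  · exact hv1 Co2Type.FactsD.ge_zero
  · exact hp hvN
  · exact not16 h hm (by decide +kernel) hvN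
  · exact not16 h hm (by decide +kernel) hvN
  · exact not16 h (inE_xor hm iv) (by decide +kernel) (hxy hm hvN)
  · exact not16 h hm (by decide +kernel) hvN
  · exact hvw rfl
  · apply hp
    have h2 := hxy hm hvN
    have e : 8126628 ^^^ mv = 277580 := by decide +kernel
    rwa [e] at h2

/-- **`Bad` is impossible in `Co₂`.** -/
theorem not_bad (w : Spor.Co2) (N : Subgroup Spor.Co2) : ¬ Bad w N := by
  intro h
  have := finite_co2
  rcases classes h.sq h.ne with hc | hc | hc
  · exact h.non w h.mem h.sq h.ne (cen_of_A hc)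
  · obtain ⟨N', hN'⟩ := bad_of_isConj h hc.symm
    exact not_bad_y N' hN'
  · obtain ⟨N', hN'⟩ := bad_of_isConj h hc.symm
    exact not_bad_v N' hN'

/-! ### `O(C(w)) = 1` -/

theorem bal_E {m : ℕ} (hm : inE m = true) (I : Subgroup Spor.Co2) (hI : ∀ i ∈ I, i * ge m = ge m * i)
    (hn : ∀ c : Spor.Co2, c * ge m = ge m * c → ∀ i ∈ I, c * i * c⁻¹ ∈ I) (hodd : Odd (Nat.card ↥I)) : I = ⊥ := by
  have := finite_co2
  -- every involution of class 2A in `E` inverts `I`
  have hinv : ∀ a : ℕ, inE a = true → IsConj (ge mz) (ge a) → ∀ x ∈ I, ge a * x * (ge a)⁻¹ = x⁻¹ := by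
    intro a ha hA
    obtain ⟨g, hg⟩ := isConj_iff.1 hA
    have hL := CoTwo.RLarge.large.conj g
    rw [hg] at hL
    have hp : IsPGroup 2 ↥(CoTwo.RSub.R.map (MulAut.conj g).toMonoidHom) := by
      apply IsPGroup.map
      rw [IsPGroup.iff_card]
      exact ⟨9, CoTwo.RLarge.card_R⟩
    have hcomm : ge m * ge a = ge a * ge m := by rw [ge_mul hm ha, ge_mul ha hm, Nat.xor_comm]
    apply KFacts.Co3D4.inverts hodd (Co2Type.FactsD.ge_sq ha)
    · intro x hx
      exact hn _ hcomm.symm x hx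
    · intro x hx hxa
      exact eq_one_of_large hL hp (Co2Type.FactsD.ge_sq hm) hcomm hI hn hodd x hx hxa
  have hA := Co2Type.FactsCo2.cls
  have h1 := hinv ma ia hA.aA
  have h2 := hinv mb ib hA.bA
  have h3 := hinv mc ic hA.cA
  have h4 := hinv md id' hA.dA
  have h5 := hA.abcdA
  rw [ge_mul ia ib, ge_mul (inE_xor ia ib) ic, ge_mul (inE_xor (inE_xor ia ib) ic) id'] at h5
  have h6 := hinv _ (inE_xor (inE_xor (inE_xor ia ib) ic) id') h5
  have e : ge (ma ^^^ mb ^^^ mc ^^^ md) = ge ma * ge mb * ge mc * ge md := by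
    rw [ge_mul ia ib, ge_mul (inE_xor ia ib) ic, ge_mul (inE_xor (inE_xor ia ib) ic) id']
  rw [Subgroup.eq_bot_iff_forall]
  intro x hx
  apply KFacts.Co3D4.eq_one_of_odd hodd hx
  have e1 : ge (ma ^^^ mb ^^^ mc ^^^ md) * x * (ge (ma ^^^ mb ^^^ mc ^^^ md))⁻¹ = x := by
    rw [e]
    have hi := I.inv_mem hx
    calc ge ma * ge mb * ge mc * ge md * x * (ge ma * ge mb * ge mc * ge md)⁻¹
        = ge ma * (ge mb * (ge mc * (ge md * x * (ge md)⁻¹) * (ge mc)⁻¹) * (ge mb)⁻¹) * (ge ma)⁻¹ := by group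
      _ = x := by rw [h4 x hx, h3 _ hi, inv_inv, h2 x hx, h1 _ hi, inv_inv]
  rw [h6 x hx] at e1
  calc x * x = x⁻¹ * x := by rw [e1]
    _ = 1 := inv_mul_cancel x

theorem bal (a : Spor.Co2) (ha : a * a = 1) (ha1 : a ≠ 1) (I : Subgroup Spor.Co2) (hI : ∀ i ∈ I, i * a = a * i)
    (hn : ∀ c : Spor.Co2, c * a = a * c → ∀ i ∈ I, c * i * c⁻¹ ∈ I) (hodd : Odd (Nat.card ↥I)) : I = ⊥ := by
  have key : ∀ m : ℕ, inE m = true → IsConj (ge m) a → I = ⊥ := by
    intro m hm hc
    obtain ⟨g, hg⟩ := isConj_iff.1 hc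
    exact Spor.bal_of_one (z := ge m) (fun J h1 h2 h3 => bal_E hm J h1 h2 h3) hg I hI hn hodd
  rcases classes ha ha1 with hc | hc | hc
  · exact key mz iz hc
  · exact key my iy hc
  · exact key mv iv hc

/-! ### the sheet -/

theorem z1 (S : Sylow 2 Spor.Co2) (a : Spor.Co2) (ha : a ∈ S) (ha1 : a ≠ 1)
    (hac : ∀ s ∈ S, s * a = a * s) (b : Spor.Co2) (hb : b ∈ S) (hb1 : b ≠ 1)
    (hbc : ∀ s ∈ S, s * b = b * s) : a = b := by
  have := finite_co2
  have : Fact (Nat.Prime 2) := ⟨Nat.prime_two⟩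
  obtain ⟨g, hg⟩ := MulAction.exists_smul_eq Spor.Co2 S TSyl
  have key : ∀ a : Spor.Co2, a ∈ S → a ≠ 1 → (∀ s ∈ S, s * a = a * s) → g * a * g⁻¹ = ge mz := by
    intro a ha ha1 hac
    have hmem : ∀ x ∈ S, g * x * g⁻¹ ∈ T := by
      intro x hx
      have h2 : g * x * g⁻¹ ∈ ((g • S : Sylow 2 Spor.Co2) : Subgroup Spor.Co2) := by
        rw [Sylow.coe_subgroup_smul]
        exact ⟨x, hx, rfl⟩
      rw [hg] at h2
      exact h2
    have hmem' : ∀ x ∈ T, g⁻¹ * x * g ∈ S := by
      intro x hx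
      have h2 : x ∈ ((g • S : Sylow 2 Spor.Co2) : Subgroup Spor.Co2) := by rw [hg]; exact hx
      rw [Sylow.coe_subgroup_smul] at h2
      obtain ⟨y, hy, hyx⟩ := h2
      have hyx' : g * y * g⁻¹ = x := hyx
      rw [← hyx']
      have : g⁻¹ * (g * y * g⁻¹) * g = y := by group
      rw [this]; exact hy
    have h1 := center_T _ (hmem a ha) (by
      intro s hs
      have h2 := hac _ (hmem' s hs)
      calc s * (g * a * g⁻¹) = g * ((g⁻¹ * s * g) * a) * g⁻¹ := by group
        _ = g * (a * (g⁻¹ * s * g)) * g⁻¹ := by rw [h2]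
        _ = g * a * g⁻¹ * s := by group)
    rcases h1 with h1 | h1
    · exfalso
      apply ha1
      calc a = g⁻¹ * (g * a * g⁻¹) * g := by group
        _ = 1 := by rw [h1]; group
    · exact h1
  have h1 := key a ha ha1 hac
  have h2 := key b hb hb1 hbc
  calc a = g⁻¹ * (g * a * g⁻¹) * g := by group
    _ = g⁻¹ * (g * b * g⁻¹) * g := by rw [h1, h2]
    _ = b := by group

theorem sheet_co2 (hout : ∀ α : MulAut Spor.Co2, Spor.Inn α) : Spor.Sheet Spor.Co2 := by
  have := finite_co2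
  exact
    { out := Spor.out_of_inn hout
      schreier := Spor.schreier_of_inn hout
      sylAut := Spor.sylAut_of_inn hout
      z1 := fun S a ha _ ha1 hac b hb _ hb1 hbc => z1 S a ha ha1 hac b hb hb1 hbc
      bal := bal
      out2 := Spor.out2_of_inn hout
      tab := Spor.tab_of_not_bad not_bad }

/-- **The sheet of kind D4 of `Co₂`**, given `Out(Co₂) = 1`. -/
theorem sheet {X : Type*} [Group X] (h : Cfsg.Spor.IsoCo2 X) (hout : ∀ α : MulAut X, Spor.Inn α) :
    Spor.Sheet X := by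
  obtain ⟨e⟩ := h
  refine Spor.Sheet.of_equiv e.symm (sheet_co2 fun α => ?_)
  exact (Spor.inn_iff e).1 (hout _)

end Cfsg.Agent.KFacts.Co2D4

end

-- merged: Cfsg.Agent.KFacts.Co2D4.Sheet
section

/-!
# The sheet of kind D4 of `Co₂`
-/

set_option autoImplicit false

namespace Cfsg.Agent.KFacts.Co2D4

/-- **The sheet of kind D4 of `Co₂`.** -/
theorem sheetD4 {X : Type*} [Group X] (h : Cfsg.Spor.IsoCo2 X) : OddHalf.D4.Spor.Sheet X := by
  obtain ⟨e⟩ := h
  exact sheet ⟨e⟩ fun α => Cfsg.Agent.KFacts.CoTwo.Main.allInner_iso e α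

end Cfsg.Agent.KFacts.Co2D4

end
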